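import Groth.Agent.Sga3.H789.FieldHull2

/-!
# Homomorphisms from quasi-compact group schemes to affine group schemes over a field: final form
-/

set_option autoImplicit false
universe u
open CategoryTheory MonoidalCategory CartesianMonoidalCategory MonObj GrpObj AlgebraicGeometry Limits

namespace Groth.Agent.Sga3.H789.FieldHull

/-- Let `G` be a quasi-compact group scheme over a field `k` (not necessarily of finite type), `H` an
affine group scheme and `φ : G ⟶ H` a homomorphism such that `O(H) → O(G)` is injective. Then `φ` is
flat and surjective. -/
theorem flat_and_surjective (k : Type u) [Field k] (G H : Over (Spec (CommRingCat.of k)))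
    [GrpObj G] [GrpObj H] (φ : G ⟶ H) [IsMonHom φ] [QuasiCompact G.hom] [IsAffine H.left]
    (hinj : Function.Injective φ.left.appTop.hom) : Flat φ.left ∧ Surjective φ.left := by
  have h1 : QuasiCompact (φ.left ≫ H.hom) := by rw [Over.w]; infer_instance
  have h2 : QuasiCompact φ.left := QuasiCompact.of_comp φ.left H.hom
  exact Groth.Agent.Sga3.H789.FieldHull2.flat_and_surjective_of_injective φ hinj

end Groth.Agent.Sga3.H789.FieldHull
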