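import Groth.Agent.Sga3.H789.FieldHull1
import Groth.Agent.Books.SubHopfFG
import Groth.Agent.Books.AffBridge2

/-!
# Homomorphisms from quasi-compact group schemes to affine group schemes over a field

If `u : G ⟶ H` is a quasi-compact homomorphism of group schemes over a field, `H` is affine and
`O(H) → O(G)` is injective, then `u` is flat and surjective.
-/

set_option autoImplicit false
universe u
open CategoryTheory MonoidalCategory CartesianMonoidalCategory MonObj GrpObj AlgebraicGeometry Limits

namespace Groth.Agent.Sga3.H789.FieldHull2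

open Groth.Agent.Sga3.H789.FieldHull1 Groth.Agent.Books.AffBridge Groth.Agent.Books.AffBridge2
  Groth.Agent.Books.SubHopf Groth.Agent.Books.SubHopfFG

/-- Flatness over a directed union of subalgebras. -/
theorem flat_of_subalgebras {k A M : Type*} [CommRing k] [CommRing A] [Algebra k A]
    [AddCommGroup M] [Module A M]
    (h : ∀ s : Set A, s.Finite → ∃ B : Subalgebra k A, s ⊆ B ∧ Module.Flat B M) :
    Module.Flat A M := by
  refine Module.Flat.of_forall_isTrivialRelation ?_
  intro l f x hfx
  obtain ⟨B, hB, hflat⟩ := h (Set.range f) (Set.finite_range f)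
  let f' : Fin l → B := fun i => ⟨f i, hB ⟨i, rfl⟩⟩
  have h1 : ∑ i, f' i • x i = 0 := hfx
  obtain ⟨κ, a, y, h2, h3⟩ := Module.Flat.isTrivialRelation_of_sum_smul_eq_zero h1
  refine ⟨κ, fun i j => (a i j : A), y, fun i => h2 i, fun j => ?_⟩
  have h4 := congrArg Subtype.val (h3 j)
  simpa [f'] using h4

theorem ringHom_flat_of_subalgebras {k A C : Type*} [CommRing k] [CommRing A] [Algebra k A]
    [CommRing C] (φ : A →+* C)
    (h : ∀ s : Set A, s.Finite → ∃ B : Subalgebra k A, s ⊆ B ∧ (φ.comp B.val.toRingHom).Flat) :
    φ.Flat := by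
  algebraize [φ]
  refine flat_of_subalgebras (k := k) fun s hs => ?_
  obtain ⟨B, hB, hf⟩ := h s hs
  exact ⟨B, hB, hf⟩

/-- Flatness of a morphism `X ⟶ Spec A` can be tested on a directed family of subalgebras of `A`. -/
theorem flat_of_subalgebras_scheme {k A : Type u} [CommRing k] [CommRing A] [Algebra k A]
    {X : Scheme.{u}} (f : X ⟶ Spec (CommRingCat.of A))
    (h : ∀ s : Set A, s.Finite → ∃ B : Subalgebra k A, s ⊆ B ∧
      Flat (f ≫ Spec.map (CommRingCat.ofHom B.val.toRingHom))) : Flat f := by
  rw [IsZariskiLocalAtSource.iff_of_openCover (P := @Flat) X.affineCover]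
  intro i
  have hg : IsOpenImmersion (X.affineCover.f i) := inferInstance
  revert hg
  generalize X.affineCover.f i = g
  revert g
  change ∀ g : Spec _ ⟶ X, IsOpenImmersion g → Flat (g ≫ f)
  intro g hg
  obtain ⟨φ, hφ⟩ := Spec.map_surjective (g ≫ f)
  rw [← hφ, Flat.SpecMap_iff]
  refine ringHom_flat_of_subalgebras (k := k) φ.hom fun s hs => ?_
  obtain ⟨B, hsB, h1⟩ := h s hs
  refine ⟨B, hsB, ?_⟩
  have h2 : Flat (Spec.map (CommRingCat.ofHom B.val.toRingHom ≫ φ)) := by
    rw [Spec.map_comp, hφ, Category.assoc]
    infer_instance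
  rw [Flat.SpecMap_iff] at h2
  exact h2

/-- A quasi-compact morphism to an affine scheme which is injective on global sections is
schematically dominant. -/
theorem isSchemeTheoreticallyDominant_of_injective {X Y : Scheme.{u}} (f : X ⟶ Y) [QuasiCompact f]
    [IsAffine Y] (hf : Function.Injective f.appTop.hom) : IsSchemeTheoreticallyDominant f := by
  rw [isSchemeTheoreticallyDominant_iff]
  refine Scheme.IdealSheafData.ext_of_isAffine ?_
  rw [Scheme.Hom.ker_apply]
  exact (RingHom.injective_iff_ker_eq_bot _).1 hf

variable {k : Type u} [Field k]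

theorem isSchemeTheoreticallyDominant_specMap {A B : Type u} [CommRing A] [CommRing B]
    [Algebra k A] [Algebra k B] (f : A →ₐ[k] B) (hf : Function.Injective f) :
    IsSchemeTheoreticallyDominant (specMap k f).left := by
  refine isSchemeTheoreticallyDominant_of_injective
    (Spec.map (CommRingCat.ofHom f.toRingHom)) ?_
  have h1 := Scheme.ΓSpecIso_naturality (CommRingCat.ofHom f.toRingHom)
  have h2 : (Spec.map (CommRingCat.ofHom f.toRingHom)).appTop =
    (Scheme.ΓSpecIso _).hom ≫ CommRingCat.ofHom f.toRingHom ≫ (Scheme.ΓSpecIso _).inv := by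
    rw [← Category.assoc, ← h1, Category.assoc, Iso.hom_inv_id, Category.comp_id]
  rw [h2]
  simp only [CommRingCat.hom_comp, RingHom.coe_comp, CommRingCat.hom_ofHom]
  refine ((ConcreteCategory.bijective_of_isIso (Scheme.ΓSpecIso (CommRingCat.of B)).inv).1.comp
    hf).comp (ConcreteCategory.bijective_of_isIso (Scheme.ΓSpecIso (CommRingCat.of A)).hom).1

/-- Let `u : G ⟶ Spec A` be a quasi-compact, schematically dominant homomorphism of group schemes
over a field. Then it is flat. -/
theorem flat_specOver {G : Over (Spec (CommRingCat.of k))} [GrpObj G] {A : Type u} [CommRing A]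
    [HopfAlgebra k A] (u : G ⟶ SpecOver k A) [IsMonHom u] [QuasiCompact u.left]
    [IsSchemeTheoreticallyDominant u.left] : Flat u.left := by
  have key : ∀ B : Subalgebra k A, IsSubHopf (k := k) B → B.FG →
      Flat (u.left ≫ Spec.map (CommRingCat.ofHom B.val.toRingHom)) := by
    intro B hB hfg
    let _ := hB.hopf
    have h1 : IsMonHom (specMap k (hB.val : B →ₐ[k] A)) := isMonHom_specMap k hB.val
    have h2 : IsSchemeTheoreticallyDominant (specMap k (hB.val : B →ₐ[k] A)).left :=
      isSchemeTheoreticallyDominant_specMap _ Subtype.val_injective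
    have h3 : IsSchemeTheoreticallyDominant (u ≫ specMap k (hB.val : B →ₐ[k] A)).left := by
      rw [Over.comp_left]; infer_instance
    have h4 : QuasiCompact (u ≫ specMap k (hB.val : B →ₐ[k] A)).left := by
      have : QuasiCompact (specMap k (hB.val : B →ₐ[k] A)).left :=
        inferInstanceAs (QuasiCompact (Spec.map _))
      rw [Over.comp_left]; infer_instance
    have h5 : Algebra.FiniteType k B := B.fg_iff_finiteType.1 hfg
    have h6 : IsNoetherianRing B := Algebra.FiniteType.isNoetherianRing k B
    have h7 : IsLocallyNoetherian (SpecOver k B).left :=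
      inferInstanceAs (IsLocallyNoetherian (Spec (CommRingCat.of B)))
    exact flat_of_dominant (u ≫ specMap k (hB.val : B →ₐ[k] A))
  refine flat_of_subalgebras_scheme (k := k) u.left fun s hs => ?_
  obtain ⟨B, hB, hfg, hsB⟩ := exists_fg_subHopf (k := k) (A := A) s hs
  exact ⟨B, hsB, key B hB hfg⟩

/-- Main theorem: let `u : G ⟶ H` be a quasi-compact homomorphism of group schemes over a field, `H`
affine, such that `O(H) → O(G)` is injective. Then `u` is flat and surjective. -/
theorem flat_and_surjective_of_injective {G H : Over (Spec (CommRingCat.of k))} [GrpObj G]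
    [GrpObj H] (u : G ⟶ H) [IsMonHom u] [QuasiCompact u.left] [IsAffine H.left]
    (hu : Function.Injective u.left.appTop.hom) : Flat u.left ∧ Surjective u.left := by
  have h0 := isSchemeTheoreticallyDominant_of_injective u.left hu
  refine ⟨?_, surjective_of_dominant u⟩
  obtain ⟨A, _, _, e, he⟩ := exists_hopf k H
  have he1 : IsIso e.hom.left := inferInstanceAs (IsIso ((Over.forget _).map e.hom))
  have he2 : IsIso e.inv.left := inferInstanceAs (IsIso ((Over.forget _).map e.inv))
  have h1 : QuasiCompact (u ≫ e.hom).left := by rw [Over.comp_left]; infer_instance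
  have h2 : IsSchemeTheoreticallyDominant (u ≫ e.hom).left := by
    rw [Over.comp_left]; infer_instance
  have h3 := flat_specOver (u ≫ e.hom)
  have h4 : u.left = (u ≫ e.hom).left ≫ e.inv.left := by
    rw [← Over.comp_left, Category.assoc, e.hom_inv_id, Category.comp_id]
  rw [h4]
  infer_instance

end Groth.Agent.Sga3.H789.FieldHull2
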