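import Mathlib.AlgebraicGeometry.Morphisms.FlatMono
import Mathlib.AlgebraicGeometry.Morphisms.SchemeTheoreticallyDominant
import Mathlib.RingTheory.Localization.FractionRing
import Groth.Agent.Sga3.H789.FieldHull2

/-!
# Schemes over a domain with affine generic fibre and flat surjective affinization map
-/

set_option autoImplicit false
universe u
open CategoryTheory AlgebraicGeometry Limits

namespace Groth.Agent.Sga3.H789.HullIso

/-- flat affine base change for global sections of qcqs schemes -/
theorem isPushout_appTop_of_flat {X Y S T : Scheme.{u}} {f : T ⟶ S} {g : Y ⟶ X} {iX : X ⟶ S}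
    {iY : Y ⟶ T} (H : IsPullback g iY iX f) [IsAffine S] [IsAffine T] [Flat f] [CompactSpace X]
    [QuasiSeparatedSpace X] : IsPushout iX.appTop f.appTop g.appTop iY.appTop := by
  have h1 := isIso_pushoutSection_of_isQuasiSeparated_of_flat_right (US := ⊤) (UT := ⊤) (UX := ⊤)
    (UY := ⊤) H (by simp) (by simp) (by simp) (isAffineOpen_top _) (isAffineOpen_top _)
    CompactSpace.isCompact_univ isQuasiSeparated_univ
  have h2 := (isIso_pushoutSection_iff ..).mp h1
  have e : ∀ {A B : Scheme.{u}} (f : A ⟶ B) (h : (⊤ : A.Opens) ≤ f ⁻¹ᵁ ⊤), f.appLE ⊤ ⊤ h = f.appTop :=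
    fun f _ => Scheme.Hom.appLE_eq_app f
  simpa only [e] using h2

theorem isIso_of_isIso_appTop {X Y : Scheme.{u}} [IsAffine X] [IsAffine Y] (f : X ⟶ Y)
    [IsIso f.appTop] : IsIso f := by
  have h : f = X.isoSpec.hom ≫ Spec.map f.appTop ≫ Y.isoSpec.inv := by
    rw [← Category.assoc, Scheme.isoSpec_hom_naturality, Category.assoc, Iso.hom_inv_id,
      Category.comp_id]
  rw [h]
  infer_instance

/-- Let `φ : X ⟶ H` be a morphism over the affine scheme `S`, `X` qcqs, `H` affine, which is an
isomorphism on global sections. If the base change of `X` along a flat affine `T ⟶ S` is affine,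
then the base change of `φ` is an isomorphism. -/
theorem isIso_baseChange {X H S T X' H' : Scheme.{u}} [IsAffine S] [IsAffine T] [IsAffine H]
    [CompactSpace X] [QuasiSeparatedSpace X] (φ : X ⟶ H) [IsIso φ.appTop] {f : X ⟶ S} {fH : H ⟶ S}
    (hf : φ ≫ fH = f) {j : T ⟶ S} [Flat j] {gX : X' ⟶ X} {pX : X' ⟶ T} {gH : H' ⟶ H} {pH : H' ⟶ T}
    (hX : IsPullback gX pX f j) (hH : IsPullback gH pH fH j) [IsAffine X'] (q : X' ⟶ H')
    (hq1 : q ≫ gH = gX ≫ φ) (hq2 : q ≫ pH = pX) : IsIso q := by
  have : IsAffine H' := by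
    have : IsAffine (pullback fH j) := inferInstance
    exact .of_isIso hH.isoPullback.hom
  have h1 := isPushout_appTop_of_flat hX
  have h2 := isPushout_appTop_of_flat hH
  have h3 : IsPushout fH.appTop j.appTop (φ.appTop ≫ gX.appTop) pX.appTop :=
    h1.of_iso (Iso.refl _) (asIso φ.appTop).symm (Iso.refl _) (Iso.refl _)
      (by simp [← hf]) (by simp) (by simp) (by simp)
  have h4 : q.appTop = (h2.isoIsPushout _ _ h3).hom := by
    apply h2.hom_ext
    · rw [IsPushout.inl_isoIsPushout_hom, ← Scheme.Hom.comp_appTop, ← Scheme.Hom.comp_appTop, hq1]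
    · rw [IsPushout.inr_isoIsPushout_hom, ← Scheme.Hom.comp_appTop, hq2]
  have h5 : IsIso q.appTop := by rw [h4]; infer_instance
  exact isIso_of_isIso_appTop q

/-- A flat surjective quasi-compact separated morphism over an integral affine scheme with flat
source, which is a monomorphism generically, is an isomorphism. -/
theorem isIso_of_generic {X H S T : Scheme.{u}} (φ : X ⟶ H) [Flat φ] [Surjective φ] [QuasiCompact φ]
    (f : X ⟶ S) (fH : H ⟶ S) (hf : φ ≫ fH = f) [Flat f] [IsSeparated f] (j : T ⟶ S)
    [QuasiCompact j] [IsSchemeTheoreticallyDominant j]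
    (hq : Mono (pullback.map f j fH j φ (𝟙 T) (𝟙 S) (by rw [hf, Category.comp_id])
      (by rw [Category.comp_id, Category.id_comp]))) : IsIso φ := by
  have hsep : IsSeparated φ := by
    have : IsSeparated (φ ≫ fH) := by rw [hf]; infer_instance
    exact IsSeparated.of_comp φ fH
  suffices Mono φ from Flat.isIso_of_surjective_of_mono φ
  let Z := pullback φ φ
  let p1 : Z ⟶ X := pullback.fst φ φ
  let p2 : Z ⟶ X := pullback.snd φ φ
  have hZ : Flat (p1 ≫ f) := inferInstance
  -- the generic fibre of `Z`
  let W := pullback (p1 ≫ f) j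
  let i : W ⟶ Z := pullback.fst (p1 ≫ f) j
  have hi : IsSchemeTheoreticallyDominant i := inferInstance
  have hp2 : p2 ≫ f = p1 ≫ f := by
    rw [← hf, ← pullback.condition_assoc]
  have hagree : i ≫ p1 = i ≫ p2 := by
    let a1 : W ⟶ pullback f j := pullback.lift (i ≫ p1) (pullback.snd _ _) (by
      rw [Category.assoc]; exact pullback.condition)
    let a2 : W ⟶ pullback f j := pullback.lift (i ≫ p2) (pullback.snd _ _) (by
      rw [Category.assoc, hp2]; exact pullback.condition)
    have h1 : a1 = a2 := by
      rw [← cancel_mono (pullback.map f j fH j φ (𝟙 T) (𝟙 S) _ _)]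
      apply pullback.hom_ext
      · simp only [Category.assoc, pullback.lift_fst, pullback.map, a1, a2, pullback.lift_fst_assoc]
        rw [pullback.condition]
      · simp only [Category.assoc, pullback.lift_snd, pullback.map, a1, a2, pullback.lift_snd_assoc]
    have h2 : a1 ≫ pullback.fst f j = a2 ≫ pullback.fst f j := by rw [h1]
    rwa [pullback.lift_fst, pullback.lift_fst] at h2
  -- the diagonal is an isomorphism
  let Δ := pullback.diagonal φ
  have hΔ : i = (i ≫ p1) ≫ Δ := by
    apply pullback.hom_ext
    · simp [Δ, p1]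
    · simp only [Δ, Category.assoc, pullback.diagonal_snd, Category.comp_id]
      exact hagree.symm
  have hker : Δ.ker = ⊥ := by
    rw [← le_bot_iff, ← i.ker_eq_bot]
    conv_rhs => rw [hΔ]
    exact Scheme.Hom.le_ker_comp _ _
  have hiso : IsIso Δ := IsClosedImmersion.isIso_iff_ker_eq_bot.2 hker
  exact (pullback.isIso_diagonal_iff φ).1 hiso

/-- Let `X` be flat, separated and quasi-compact over a domain `R` with affine generic fibre. If the
canonical map `X ⟶ Spec Γ(X)` is flat and surjective, then `X` is affine. -/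
theorem isAffine_of_flat_surjective {R K : Type u} [CommRing R] [IsDomain R] [Field K]
    [Algebra R K] [IsFractionRing R K] {X : Scheme.{u}} (f : X ⟶ Spec (CommRingCat.of R)) [Flat f]
    [IsSeparated f] [QuasiCompact f]
    (hK : IsAffine (pullback f (Spec.map (CommRingCat.ofHom (algebraMap R K)))))
    (h1 : Surjective X.toSpecΓ) (h2 : Flat X.toSpecΓ) : IsAffine X := by
  have hX1 : CompactSpace X := QuasiCompact.compactSpace_of_compactSpace f
  have hX2 : QuasiSeparatedSpace X := quasiSeparatedSpace_of_quasiSeparated f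
  let S : Scheme.{u} := Spec (CommRingCat.of R)
  let j : Spec (CommRingCat.of K) ⟶ S := Spec.map (CommRingCat.ofHom (algebraMap R K))
  have hj1 : Flat j := by
    rw [Flat.SpecMap_iff]
    change (algebraMap R K).Flat
    rw [RingHom.flat_algebraMap_iff]
    exact IsLocalization.flat K (nonZeroDivisors R)
  have hj2 : IsSchemeTheoreticallyDominant j := by
    have := Groth.Agent.Sga3.H789.FieldHull2.isSchemeTheoreticallyDominant_of_injective j ?_
    · exact this
    · have h1 := Scheme.ΓSpecIso_naturality (CommRingCat.ofHom (algebraMap R K))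
      have h2 : j.appTop = (Scheme.ΓSpecIso _).hom ≫ CommRingCat.ofHom (algebraMap R K) ≫
          (Scheme.ΓSpecIso _).inv := by
        rw [← Category.assoc, ← h1, Category.assoc, Iso.hom_inv_id, Category.comp_id]
      rw [h2]
      simp only [CommRingCat.hom_comp, RingHom.coe_comp, CommRingCat.hom_ofHom]
      refine ((ConcreteCategory.bijective_of_isIso
        (Scheme.ΓSpecIso (CommRingCat.of K)).inv).1.comp (IsFractionRing.injective R K)).comp
          (ConcreteCategory.bijective_of_isIso (Scheme.ΓSpecIso (CommRingCat.of R)).hom).1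
  let fH : Spec Γ(X, ⊤) ⟶ S := Spec.map f.appTop ≫ S.isoSpec.inv
  have hf : X.toSpecΓ ≫ fH = f := by
    rw [← Category.assoc, ← Scheme.toSpecΓ_naturality, Category.assoc]
    change f ≫ S.isoSpec.hom ≫ S.isoSpec.inv = f
    rw [Iso.hom_inv_id, Category.comp_id]
  have hφ : IsIso X.toSpecΓ.appTop := by
    rw [Scheme.toSpecΓ_appTop]; infer_instance
  have hqc : QuasiCompact X.toSpecΓ := inferInstance
  have h3 := isIso_baseChange X.toSpecΓ hf (IsPullback.of_hasPullback f j)
    (IsPullback.of_hasPullback fH j) (pullback.map f j fH j X.toSpecΓ (𝟙 _) (𝟙 S)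
      (by rw [hf, Category.comp_id]) (by rw [Category.comp_id, Category.id_comp]))
      (pullback.lift_fst _ _ _) ((pullback.lift_snd _ _ _).trans (Category.comp_id _))
  have h4 := isIso_of_generic X.toSpecΓ f fH hf j inferInstance
  exact ⟨h4⟩

end Groth.Agent.Sga3.H789.HullIso
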