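import Groth.Agent.Sga3.H817.CentRepProj
import Groth.Prelude.Def_AlgGrp
import Mathlib.RingTheory.SimpleModule.InjectiveProjective

/-!
# The normal subgroup attached to a map `p₀ : G ⟶ X₀`

For a `k`-group scheme `G` and a map `p₀ : G ⟶ X₀` to a separated `k`-scheme, the functor
`{n : p₀(x n y) = p₀(x y) for all x, y}` is represented by a closed normal subgroup scheme `N` of `G`;
it is affine when `p₀` is.
-/

set_option autoImplicit false
universe u
open CategoryTheory MonoidalCategory CartesianMonoidalCategory MonObj GrpObj AlgebraicGeometry Limits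

namespace Groth.Agent.Sga3.H789.PerrinN

open Groth.Agent.Sga3.H817.WeilProj

/-- Every scheme over a field has locally projective coordinate rings. -/
theorem locProj_field (k : Type u) [Field k] {X : Scheme.{u}} (f : X ⟶ Spec (CommRingCat.of k)) :
    LocProj f := by
  intro s
  refine ⟨⊤, isAffineOpen_top _, trivial, fun x hx => ?_⟩
  obtain ⟨_, ⟨U, hU, rfl⟩, hxU, -⟩ :=
    X.isBasis_affineOpens.exists_subset_of_mem_open (Set.mem_univ x) isOpen_univ
  have e : U ≤ f ⁻¹ᵁ ⊤ := fun _ _ => trivial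
  refine ⟨U, hU, e, hxU, ?_⟩
  let i1 : Algebra Γ(Spec (CommRingCat.of k), ⊤) Γ(X, U) := (f.appLE ⊤ U e).hom.toAlgebra
  have h1 : IsSemisimpleRing Γ(Spec (CommRingCat.of k), ⊤) :=
    (Scheme.ΓSpecIso (CommRingCat.of k)).commRingCatIsoToRingEquiv.symm.isSemisimpleRing
  exact Module.projective_of_isSemisimpleRing _ _

variable {k : Type u} [Field k] {G X₀ : Over (Spec (CommRingCat.of k))} [GrpObj G]

/-- The `T`-points `n` of `G` with `p₀(x n y) = p₀(x y)` for all `x, y`. -/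
def pts (p₀ : G ⟶ X₀) (T : Over (Spec (CommRingCat.of k))) : Subgroup (T ⟶ G) where
  carrier := {a | ∀ (T' : Over (Spec (CommRingCat.of k))) (t : T' ⟶ T) (x y : T' ⟶ G),
    (x * (t ≫ a) * y) ≫ p₀ = (x * y) ≫ p₀}
  mul_mem' := by
    intro a b ha hb T' t x y
    rw [MonObj.comp_mul, ← _root_.mul_assoc x, hb T' t, ha T' t]
  one_mem' := by
    intro T' t x y
    rw [MonObj.comp_one, _root_.mul_one]
  inv_mem' := by
    intro a ha T' t x y
    rw [GrpObj.comp_inv]
    have h := ha T' t (x * (t ≫ a)⁻¹) y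
    rw [inv_mul_cancel_right] at h
    exact h.symm

theorem mem_pts (p₀ : G ⟶ X₀) {T : Over (Spec (CommRingCat.of k))} (a : T ⟶ G) :
    a ∈ pts p₀ T ↔ ∀ (T' : Over (Spec (CommRingCat.of k))) (t : T' ⟶ T) (x y : T' ⟶ G),
      (x * (t ≫ a) * y) ≫ p₀ = (x * y) ≫ p₀ := Iff.rfl

/-- The subgroup `N = {n : p₀(x n y) = p₀(x y)}`. -/
theorem exists_normal (p₀ : G ⟶ X₀) [IsSeparated X₀.hom] :
    ∃ (N : Over (Spec (CommRingCat.of k))) (_ : GrpObj N) (n : N ⟶ G), IsMonHom n ∧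
      IsClosedImmersion n.left ∧ AlgGrp.IsNormalHom n ∧
      (∀ (T : Over (Spec (CommRingCat.of k))) (a : T ⟶ G), (∃ c : T ⟶ N, c ≫ n = a) ↔
        ∀ (T' : Over (Spec (CommRingCat.of k))) (t : T' ⟶ T) (x y : T' ⟶ G),
          (x * (t ≫ a) * y) ≫ p₀ = (x * y) ≫ p₀) ∧
      (IsAffineHom p₀.left → IsAffine N.left) := by
  have hd : IsClosedImmersion (lift (𝟙 X₀) (𝟙 X₀)).left := by
    change IsClosedImmersion (pullback.diagonal X₀.hom)
    infer_instance
  obtain ⟨N, n, hn, huniv, -⟩ := Groth.Agent.Sga3.H817.CentRepProj.exists_closed_map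
    (X := G) (Q := G ⊗ G) (locProj_field k (G ⊗ G).hom)
    (lift (((snd G (G ⊗ G) ≫ fst G G) * fst G (G ⊗ G) * (snd G (G ⊗ G) ≫ snd G G)) ≫ p₀)
      (((snd G (G ⊗ G) ≫ fst G G) * (snd G (G ⊗ G) ≫ snd G G)) ≫ p₀)) (lift (𝟙 X₀) (𝟙 X₀))
  have hmono : Mono n := Over.mono_of_mono_left n
  have key : ∀ (T : Over (Spec (CommRingCat.of k))) (a : T ⟶ G), (∃ c : T ⟶ N, c ≫ n = a) ↔
      a ∈ pts p₀ T := by
    intro T a
    rw [huniv, mem_pts]
    have e : ∀ (T' : Over (Spec (CommRingCat.of k))) (t : T' ⟶ T) (x y : T' ⟶ G),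
        lift (t ≫ a) (lift x y) ≫
          lift (((snd G (G ⊗ G) ≫ fst G G) * fst G (G ⊗ G) * (snd G (G ⊗ G) ≫ snd G G)) ≫ p₀)
            (((snd G (G ⊗ G) ≫ fst G G) * (snd G (G ⊗ G) ≫ snd G G)) ≫ p₀) =
          lift ((x * (t ≫ a) * y) ≫ p₀) ((x * y) ≫ p₀) := by
      intro T' t x y
      simp only [comp_lift, ← Category.assoc, MonObj.comp_mul, lift_fst, lift_snd]
    constructor
    · intro H T' t x y
      obtain ⟨b, hb⟩ := H T' t (lift x y)
      rw [e, comp_lift, Category.comp_id] at hb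
      have h1 := congrArg (· ≫ fst _ _) hb
      have h2 := congrArg (· ≫ snd _ _) hb
      simp only [lift_fst, lift_snd] at h1 h2
      rw [← h1, ← h2]
    · intro H T' t h
      obtain ⟨x, y, rfl⟩ : ∃ x y : T' ⟶ G, h = lift x y :=
        ⟨h ≫ fst _ _, h ≫ snd _ _, by ext <;> simp⟩
      refine ⟨(x * y) ≫ p₀, ?_⟩
      rw [e, comp_lift, Category.comp_id, H T' t x y]
  obtain ⟨_, hgn⟩ := Groth.Agent.Sga3B.CentRep.exists_grpObj n (fun T => pts p₀ T) key
  refine ⟨N, ‹_›, n, hgn, hn, ?_, fun T a => by rw [key, mem_pts], ?_⟩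
  · -- normality
    intro T g c
    obtain ⟨c', hc'⟩ := (key T (g * (c ≫ n) * g⁻¹)).2 (by
      rw [mem_pts]
      intro T' t x y
      have h := (mem_pts p₀ _).1 ((key T (c ≫ n)).1 ⟨c, rfl⟩) T' t (x * (t ≫ g)) ((t ≫ g)⁻¹ * y)
      rw [MonObj.comp_mul, MonObj.comp_mul, GrpObj.comp_inv]
      simp only [_root_.mul_assoc] at h ⊢
      rw [h, mul_inv_cancel_left])
    exact ⟨c', hc'.symm⟩
  · -- affineness: `N` is a closed subscheme of the fibre of `p₀` over `p₀(e)`
    intro hp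
    have h1 : n ≫ p₀ = toUnit N ≫ (η[G] ≫ p₀) := by
      have h := (mem_pts p₀ n).1 ((key N n).1 ⟨𝟙 _, Category.id_comp _⟩) N (𝟙 _) 1 1
      rw [Category.id_comp, _root_.one_mul, _root_.mul_one, _root_.one_mul] at h
      rw [h, one_eq_one, ← Category.assoc, MonObj.comp_one]
    have h2 : IsAffineHom (n ≫ p₀).left := by
      rw [Over.comp_left]; infer_instance
    have h3 : IsAffineHom ((toUnit N).left ≫ (η[G] ≫ p₀).left) := by
      rw [← Over.comp_left, ← h1]; exact h2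
    have h4 : IsSeparated (η[G] ≫ p₀).left := by
      have : (η[G] ≫ p₀).left ≫ X₀.hom = 𝟙 _ := Over.w _
      have h5 : Mono (η[G] ≫ p₀).left := mono_of_mono_fac this
      infer_instance
    have h6 : IsAffineHom (toUnit N).left :=
      MorphismProperty.of_postcomp (W := @IsAffineHom) (W' := @IsSeparated) _ _ h4 h3
    have h7 : IsAffine (𝟙_ (Over (Spec (CommRingCat.of k)))).left :=
      inferInstanceAs (IsAffine (Spec (CommRingCat.of k)))
    exact isAffine_of_isAffineHom (toUnit N).left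

end Groth.Agent.Sga3.H789.PerrinN
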