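import Groth.Agent.Sga3.H789.PerrinFac
import Groth.Agent.Sga3.H789.PerrinN
import Groth.Agent.Books.AntiAffine
import Groth.Agent.Sga3C.SchemImage
import Mathlib.AlgebraicGeometry.Morphisms.SchemeTheoreticallyDominant

/-!
# Part (A) of Perrin's theorem: presentation of a quasi-compact group scheme over a field

For a quasi-compact `k`-group scheme `G` there are `p : G ⟶ X`, `p₀ : G ⟶ X₀` affine with `X`, `X₀` separated
of finite type, `p` schematically dominant, `F : (X ⊗ X) ⊗ X ⟶ X₀` with `p₀(a g b) = F(p a, p b, p g)`, and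
`N = {n : p₀(a n b) = p₀(a b)}` is a closed normal affine subgroup scheme.
-/

set_option autoImplicit false
universe u
open CategoryTheory MonoidalCategory CartesianMonoidalCategory MonObj GrpObj AlgebraicGeometry Limits Opposite

namespace Groth.Agent.Sga3.H789.PerrinA

open Groth.Agent.Sga3.H789.PerrinFac

/-- Affineness of the projections. -/
theorem isAffineHom_pr {k : Type u} [Field k] {G : Over (Spec (CommRingCat.of k))} {I : Type u} [Preorder I]
    [IsDirected I (fun a b => a ≤ b)] [Nonempty I]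
    {D : Iᵒᵖ ⥤ Scheme.{u}} {π : (Functor.const _).obj G.left ⟶ D} (hc : IsLimit (Cone.mk G.left π))
    (haff : ∀ ⦃a b : Iᵒᵖ⦄ (h : a ⟶ b), IsAffineHom (D.map h)) (a : Iᵒᵖ) : IsAffineHom (π.app a) := by
  have i1 : ∀ {a b : Iᵒᵖ} (h : a ⟶ b), IsAffineHom (D.map h) := fun h => haff h
  exact isAffineHom_π_app D (Cone.mk G.left π) hc a

/-- **Part (A) of Perrin's theorem.** -/
theorem exists_data (k : Type u) [Field k] (G : Over (Spec (CommRingCat.of k))) [GrpObj G]
    [QuasiCompact G.hom] :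
    ∃ (X X₀ N : Over (Spec (CommRingCat.of k))) (_ : GrpObj N) (p : G ⟶ X) (p₀ : G ⟶ X₀)
      (F : (X ⊗ X) ⊗ X ⟶ X₀) (n : N ⟶ G),
      (LocallyOfFiniteType X.hom ∧ QuasiCompact X.hom ∧ IsSeparated X.hom) ∧
      (LocallyOfFiniteType X₀.hom ∧ QuasiCompact X₀.hom ∧ IsSeparated X₀.hom) ∧
      (IsSchemeTheoreticallyDominant p.left ∧ IsAffineHom p.left) ∧ IsAffineHom p₀.left ∧
      (∀ (T : Over (Spec (CommRingCat.of k))) (a b g : T ⟶ G),
        (a * g * b) ≫ p₀ = lift (lift (a ≫ p) (b ≫ p)) (g ≫ p) ≫ F) ∧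
      (IsMonHom n ∧ IsClosedImmersion n.left ∧ AlgGrp.IsNormalHom n ∧ IsAffine N.left) ∧
      (∀ (T : Over (Spec (CommRingCat.of k))) (a : T ⟶ G), (∃ c : T ⟶ N, c ≫ n = a) ↔
        ∀ (T' : Over (Spec (CommRingCat.of k))) (t : T' ⟶ T) (x y : T' ⟶ G),
          (x * (t ≫ a) * y) ≫ p₀ = (x * y) ≫ p₀) := by
  have hsep : IsSeparated G.hom := Groth.Agent.Books.AntiAffine.isSeparated_hom G
  obtain ⟨I, _, _, _, D, π, hc, τ, hτ, hπ, haff, hft, a₀, ha₀⟩ := PerrinLim.exists_pres k G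
  have hpr : ∀ a, IsAffineHom (pr hπ a).left := fun a => isAffineHom_pr hc haff a
  -- `X₀` is the stage `a₀`
  have hX0 : LocallyOfFiniteType (Over.mk (τ a₀)).hom := (hft a₀).2
  have hX0' : IsSeparated (Over.mk (τ a₀)).hom := ha₀ a₀ (𝟙 _)
  obtain ⟨a, ha, F, hF⟩ := exists_factor_three hc hτ hπ haff hft a₀ (Over.mk (τ a₀))
    (((fst (G ⊗ G) G ≫ fst G G) * snd (G ⊗ G) G * (fst (G ⊗ G) G ≫ snd G G)) ≫ pr hπ a₀)
  -- the schematic image of `G` in the stage `a`
  have hqc : QuasiCompact (pr hπ a).left := inferInstance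
  let X : Over (Spec (CommRingCat.of k)) := Over.mk ((pr hπ a).left.imageι ≫ τ a)
  let i : X ⟶ Over.mk (τ a) := Over.homMk (pr hπ a).left.imageι
  let p : G ⟶ X := Over.homMk (pr hπ a).left.toImage (by
    change (pr hπ a).left.toImage ≫ (pr hπ a).left.imageι ≫ τ a = G.hom
    rw [Scheme.Hom.toImage_imageι_assoc]
    exact Over.w (pr hπ a))
  have hpi : p ≫ i = pr hπ a := by
    apply Over.OverMorphism.ext
    exact Scheme.Hom.toImage_imageι _
  have hs : IsSeparated (τ a) := ha₀ a ha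
  have hta := (hft a).1
  have hta' := (hft a).2
  obtain ⟨N, _, n, hn1, hn2, hn3, hn4, hn5⟩ := PerrinN.exists_normal (pr hπ a₀)
  refine ⟨X, Over.mk (τ a₀), N, ‹_›, p, pr hπ a₀, ((i ⊗ₘ i) ⊗ₘ i) ≫ F, n, ⟨?_, ?_, ?_⟩,
    ⟨(hft a₀).2, (hft a₀).1, hX0'⟩, ⟨?_, ?_⟩, hpr a₀, ?_, ⟨hn1, hn2, hn3, hn5 (hpr a₀)⟩, hn4⟩
  · change LocallyOfFiniteType ((pr hπ a).left.imageι ≫ τ a)
    infer_instance
  · change QuasiCompact ((pr hπ a).left.imageι ≫ τ a)
    infer_instance
  · change IsSeparated ((pr hπ a).left.imageι ≫ τ a)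
    infer_instance
  · change IsSchemeTheoreticallyDominant (pr hπ a).left.toImage
    exact Groth.Agent.Sga3C.SchemImage.dominant_toImage _
  · change IsAffineHom (pr hπ a).left.toImage
    have : IsAffineHom ((pr hπ a).left.toImage ≫ (pr hπ a).left.imageι) := by
      rw [Scheme.Hom.toImage_imageι]; exact hpr a
    exact .of_comp _ (pr hπ a).left.imageι
  · intro T x y g
    have h1 := hF T x y g
    have e : lift (lift x y) g ≫ ((fst (G ⊗ G) G ≫ fst G G) * snd (G ⊗ G) G *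
        (fst (G ⊗ G) G ≫ snd G G)) = x * g * y := by
      rw [MonObj.comp_mul, MonObj.comp_mul]
      simp only [lift_fst_assoc, lift_fst, lift_snd]
    rw [← Category.assoc, e] at h1
    rw [← h1, ← hpi]
    simp only [lift_map_assoc, Category.assoc]
    simp only [← Category.assoc, lift_map]

end Groth.Agent.Sga3.H789.PerrinA
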