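import Groth.Agent.Sga3C.FlatImage

/-!
# Schematically dominant quasi-compact homomorphisms of group schemes over a field

Over a field, a quasi-compact schematically dominant homomorphism of group schemes is surjective; it is
flat when the target is locally noetherian.
-/

set_option autoImplicit false
universe u
open CategoryTheory MonoidalCategory CartesianMonoidalCategory MonObj GrpObj AlgebraicGeometry Limits

namespace Groth.Agent.Sga3.H789.FieldHull1

open Groth.Agent.Sga3C.FlatPt Groth.Agent.Sga3C.SchemImage Groth.Agent.Sga3C.FlatImage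
  Groth.Agent.Sga3C.GrpBasic Groth.Agent.Sga3C.GenPts

variable {k : Type u} [Field k]

theorem flat_of_field {X : Scheme.{u}} (f : X ⟶ Spec (CommRingCat.of k)) : Flat f := inferInstance

/-- A quasi-compact schematically dominant homomorphism of group schemes over a field is flat when
the target is locally noetherian. -/
theorem flat_of_dominant {G H : Over (Spec (CommRingCat.of k))} [GrpObj G] [GrpObj H] (u : G ⟶ H)
    [IsMonHom u] [QuasiCompact u.left] [IsSchemeTheoreticallyDominant u.left]
    [IsLocallyNoetherian H.left] : Flat u.left := by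
  have h0 : Flat G.hom := inferInstance
  have h1 : IsClosedImmersion (𝟙 H : H ⟶ H).left := by
    rw [Over.id_left]; infer_instance
  exact flat_of_flat_ker u (flat_of_field _) u (𝟙 H) (Category.comp_id u)

/-- A quasi-compact schematically dominant homomorphism of group schemes over a field is surjective. -/
theorem surjective_of_dominant {G H : Over (Spec (CommRingCat.of k))} [GrpObj G] [GrpObj H]
    (u : G ⟶ H) [IsMonHom u] [QuasiCompact u.left] [IsSchemeTheoreticallyDominant u.left] :
    Surjective u.left := by
  refine ⟨fun h => ?_⟩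
  let T : Over (Spec (CommRingCat.of k)) := Over.mk (H.left.fromSpecResidueField h ≫ H.hom)
  let t : T ⟶ H := Over.homMk (H.left.fromSpecResidueField h)
  have hT : Flat T.hom := inferInstance
  let β : T ⊗ G ⟶ T ⊗ H := T ◁ u
  let θ : T ⊗ H ≅ T ⊗ H := mulLeftShear t
  have hβ1 : IsSchemeTheoreticallyDominant β.left := dominant_whiskerLeft u T
  have hβ2 : QuasiCompact β.left := quasiCompact_whiskerLeft u T
  have hβ3 : IsDominant β.left := inferInstance
  -- a point of `T ⊗ H`
  let x0 : (T ⊗ H).left := (lift (𝟙 T) t).left (default : Spec (H.left.residueField h))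
  obtain ⟨z, hz, -⟩ := exists_mem_genericPoints_specializes x0
  obtain ⟨a, ha⟩ := mem_range_of_mem_genericPoints β.left z hz
  have hθ : IsIso θ.hom.left := inferInstanceAs (IsIso ((Over.forget _).map θ.hom))
  have hγ1 : QuasiCompact (β ≫ θ.hom).left := by rw [Over.comp_left]; infer_instance
  have hγ2 : IsDominant (β ≫ θ.hom).left := by rw [Over.comp_left]; infer_instance
  obtain ⟨b, hb⟩ := mem_range_of_mem_genericPoints (β ≫ θ.hom).left z hz
  obtain ⟨w, hw1, hw2⟩ := Scheme.Pullback.exists_preimage_pullback a b (f := β.left)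
    (g := (β ≫ θ.hom).left) (ha.trans hb.symm)
  let P : Over (Spec (CommRingCat.of k)) := Over.mk (pullback.fst β.left (β ≫ θ.hom).left ≫ (T ⊗ G).hom)
  let p1 : P ⟶ T ⊗ G := Over.homMk (pullback.fst β.left (β ≫ θ.hom).left)
  let p2 : P ⟶ T ⊗ G := Over.homMk (pullback.snd β.left (β ≫ θ.hom).left) (by
    change _ = pullback.fst β.left (β ≫ θ.hom).left ≫ (T ⊗ G).hom
    rw [← Over.w β, pullback.condition_assoc, Over.w, Over.w])
  have hp : p1 ≫ β = p2 ≫ β ≫ θ.hom := by
    apply Over.OverMorphism.ext
    exact pullback.condition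
  have h1 : p1 ≫ fst T G = p2 ≫ fst T G := by
    have := congrArg (fun f => f ≫ fst T H) hp
    simpa [β, θ] using this
  have h2 : p1 ≫ snd T G ≫ u = (p2 ≫ fst T G ≫ t) * (p2 ≫ snd T G ≫ u) := by
    have := congrArg (fun f => f ≫ snd T H) hp
    simpa [β, θ, comp_mul] using this
  let g : P ⟶ G := (p1 ≫ snd T G) * (p2 ≫ snd T G)⁻¹
  have h3 : g ≫ u = (p2 ≫ fst T G) ≫ t := by
    simp only [g]
    rw [MonObj.mul_comp, GrpObj.inv_comp, Category.assoc, h2, Category.assoc, Category.assoc,
      mul_inv_cancel_right]
  refine ⟨g.left w, ?_⟩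
  rw [← Scheme.Hom.comp_apply, ← Over.comp_left, h3, Over.comp_left, Scheme.Hom.comp_apply]
  exact Scheme.fromSpecResidueField_apply _ _ 

end Groth.Agent.Sga3.H789.FieldHull1
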