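import Groth.Agent.Sga3.H789.PerrinLim
import Mathlib.CategoryTheory.Monoidal.Cartesian.Over

/-!
# Morphisms out of products with a limit of schemes factor through a stage
-/

set_option autoImplicit false
universe u
open CategoryTheory MonoidalCategory CartesianMonoidalCategory AlgebraicGeometry Limits Opposite

namespace Groth.Agent.Sga3.H789.PerrinFac

open Groth.Agent.Etcore.PullbackLim

variable {k : Type u} [Field k] {G : Over (Spec (CommRingCat.of k))} {I : Type u} [Preorder I]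
  {D : Iᵒᵖ ⥤ Scheme.{u}} {π : (Functor.const _).obj G.left ⟶ D}
  {τ : ∀ a, D.obj a ⟶ Spec (CommRingCat.of k)}

/-- The projection to a stage. -/
noncomputable def pr (hπ : ∀ a, π.app a ≫ τ a = G.hom) (a : Iᵒᵖ) : G ⟶ Over.mk (τ a) :=
  Over.homMk (π.app a) (hπ a)

/-- The transition maps. -/
noncomputable def tr (hτ : ∀ ⦃a b : Iᵒᵖ⦄ (h : a ⟶ b), D.map h ≫ τ b = τ a) {a b : Iᵒᵖ} (h : a ⟶ b) :
    Over.mk (τ a) ⟶ Over.mk (τ b) := Over.homMk (D.map h) (hτ h)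

theorem pr_tr (hπ : ∀ a, π.app a ≫ τ a = G.hom)
    (hτ : ∀ ⦃a b : Iᵒᵖ⦄ (h : a ⟶ b), D.map h ≫ τ b = τ a) {a b : Iᵒᵖ} (h : a ⟶ b) :
    pr hπ a ≫ tr hτ h = pr hπ b := by
  apply Over.OverMorphism.ext
  exact (Cone.mk G.left π).w h

/-- A morphism `W ⊗ G ⟶ X₀` to a scheme of finite type factors through a stage `W ⊗ G_a`. -/
theorem exists_factor [IsDirected I (fun a b => a ≤ b)] [Nonempty I]
    (hc : IsLimit (Cone.mk G.left π))
    (hτ : ∀ ⦃a b : Iᵒᵖ⦄ (h : a ⟶ b), D.map h ≫ τ b = τ a)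
    (hπ : ∀ a, π.app a ≫ τ a = G.hom)
    (haff : ∀ ⦃a b : Iᵒᵖ⦄ (h : a ⟶ b), IsAffineHom (D.map h))
    (hft : ∀ a, QuasiCompact (τ a) ∧ LocallyOfFiniteType (τ a))
    (W X₀ : Over (Spec (CommRingCat.of k))) [QuasiCompact W.hom] [QuasiSeparated W.hom]
    [LocallyOfFiniteType X₀.hom] (h : W ⊗ G ⟶ X₀) :
    ∃ (a : Iᵒᵖ) (h' : W ⊗ Over.mk (τ a) ⟶ X₀), (W ◁ pr hπ a) ≫ h' = h := by
  have hlim := isLimitCone D τ hτ W.hom (Cone.mk G.left π) G.hom hπ hc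
  let t : sys D τ hτ W.hom ⟶ (Functor.const _).obj (Spec (CommRingCat.of k)) :=
    { app a := pullback.fst W.hom (τ a) ≫ W.hom
      naturality a b f := by
        change mapp D τ hτ W.hom f ≫ pullback.fst W.hom (τ b) ≫ W.hom =
          (pullback.fst W.hom (τ a) ≫ W.hom) ≫ 𝟙 _
        rw [mapp_fst_assoc, Category.comp_id] }
  have i0 : ∀ a, CompactSpace (D.obj a) := fun a => by
    have := (hft a).1
    exact QuasiCompact.compactSpace_of_compactSpace (τ a)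
  have i1 : ∀ a, QuasiSeparatedSpace (D.obj a) := fun a => by
    have := (hft a).2
    have : IsLocallyNoetherian (D.obj a) := LocallyOfFiniteType.isLocallyNoetherian (τ a)
    infer_instance
  have i2 : ∀ a, CompactSpace ((sys D τ hτ W.hom).obj a) := fun a =>
    compactSpace_obj D τ hτ W.hom a
  have i3 : ∀ a, QuasiSeparatedSpace ((sys D τ hτ W.hom).obj a) := fun a =>
    quasiSeparatedSpace_obj D τ hτ W.hom a
  have i4 : ∀ {a b : Iᵒᵖ} (f : a ⟶ b), IsAffineHom ((sys D τ hτ W.hom).map f) := fun f =>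
    isAffineHom_mapp D τ hτ W.hom haff f
  obtain ⟨a, g, hg1, hg2⟩ := Scheme.exists_π_app_comp_eq_of_locallyOfFinitePresentation
    (sys D τ hτ W.hom) t X₀.hom _ hlim h.left (by
      ext a
      change proj D τ W.hom (Cone.mk G.left π) G.hom hπ a ≫ pullback.fst W.hom (τ a) ≫ W.hom =
        h.left ≫ X₀.hom
      rw [Over.w h]
      change _ = pullback.fst W.hom G.hom ≫ W.hom
      rw [proj_fst_assoc])
  refine ⟨a, Over.homMk g hg2, ?_⟩
  apply Over.OverMorphism.ext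
  change (W ◁ pr hπ a).left ≫ g = h.left
  rw [← hg1]
  congr 1

/-- A morphism `(G ⊗ G) ⊗ G ⟶ X₀` to a scheme of finite type factors through a stage. -/
theorem exists_factor_three [IsDirected I (fun a b => a ≤ b)] [Nonempty I]
    [QuasiCompact G.hom] [IsSeparated G.hom]
    (hc : IsLimit (Cone.mk G.left π))
    (hτ : ∀ ⦃a b : Iᵒᵖ⦄ (h : a ⟶ b), D.map h ≫ τ b = τ a)
    (hπ : ∀ a, π.app a ≫ τ a = G.hom)
    (haff : ∀ ⦃a b : Iᵒᵖ⦄ (h : a ⟶ b), IsAffineHom (D.map h))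
    (hft : ∀ a, QuasiCompact (τ a) ∧ LocallyOfFiniteType (τ a)) (a₀ : Iᵒᵖ)
    (X₀ : Over (Spec (CommRingCat.of k)))
    [LocallyOfFiniteType X₀.hom] (h : (G ⊗ G) ⊗ G ⟶ X₀) :
    ∃ (a : Iᵒᵖ) (_ : a ⟶ a₀) (F : (Over.mk (τ a) ⊗ Over.mk (τ a)) ⊗ Over.mk (τ a) ⟶ X₀),
      ∀ (T : Over (Spec (CommRingCat.of k))) (x y z : T ⟶ G),
        lift (lift (x ≫ pr hπ a) (y ≫ pr hπ a)) (z ≫ pr hπ a) ≫ F = lift (lift x y) z ≫ h := by
  have hqs : ∀ a, IsLocallyNoetherian (D.obj a) := fun a => by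
    have := (hft a).2
    exact LocallyOfFiniteType.isLocallyNoetherian (τ a)
  have hqc : ∀ a, QuasiCompact (Over.mk (τ a)).hom := fun a => (hft a).1
  have hqs' : ∀ a, QuasiSeparated (Over.mk (τ a)).hom := fun a => by
    change QuasiSeparated (τ a)
    infer_instance
  have inst : ∀ W W' : Over (Spec (CommRingCat.of k)), QuasiCompact W.hom → QuasiSeparated W.hom →
      QuasiCompact W'.hom → QuasiSeparated W'.hom →
        QuasiCompact (W ⊗ W').hom ∧ QuasiSeparated (W ⊗ W').hom := by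
    intro W W' _ _ _ _
    rw [Over.tensorObj_hom]
    exact ⟨inferInstance, inferInstance⟩
  have hG1 : QuasiSeparated G.hom := inferInstance
  -- third variable
  have j1 := (inst G G inferInstance hG1 inferInstance hG1).1
  have j2 := (inst G G inferInstance hG1 inferInstance hG1).2
  obtain ⟨a₁, h₁, e₁⟩ := exists_factor hc hτ hπ haff hft (G ⊗ G) X₀ h
  -- second variable
  let B₁ := Over.mk (τ a₁)
  let s₁ : (G ⊗ B₁) ⊗ G ⟶ (G ⊗ G) ⊗ B₁ :=
    lift (lift (fst _ _ ≫ fst _ _) (snd _ _)) (fst _ _ ≫ snd _ _)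
  have j3 := (inst G B₁ inferInstance hG1 (hqc a₁) (hqs' a₁)).1
  have j4 := (inst G B₁ inferInstance hG1 (hqc a₁) (hqs' a₁)).2
  obtain ⟨a₂, h₂, e₂⟩ := exists_factor hc hτ hπ haff hft (G ⊗ B₁) X₀ (s₁ ≫ h₁)
  -- first variable
  let B₂ := Over.mk (τ a₂)
  let s₂ : (B₂ ⊗ B₁) ⊗ G ⟶ (G ⊗ B₁) ⊗ B₂ :=
    lift (lift (snd _ _) (fst _ _ ≫ snd _ _)) (fst _ _ ≫ fst _ _)
  have j5 := (inst B₂ B₁ (hqc a₂) (hqs' a₂) (hqc a₁) (hqs' a₁)).1
  have j6 := (inst B₂ B₁ (hqc a₂) (hqs' a₂) (hqc a₁) (hqs' a₁)).2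
  obtain ⟨a₃, h₃, e₃⟩ := exists_factor hc hτ hπ haff hft (B₂ ⊗ B₁) X₀ (s₂ ≫ h₂)
  -- a common index
  obtain ⟨b, hb0, hb1⟩ := exists_ge_ge a₀.unop a₁.unop
  obtain ⟨b', hb2, hb3⟩ := exists_ge_ge a₂.unop a₃.unop
  obtain ⟨c, hc1, hc2⟩ := exists_ge_ge b b'
  let f0 : op c ⟶ a₀ := (homOfLE (hb0.trans hc1)).op
  let f1 : op c ⟶ a₁ := (homOfLE (hb1.trans hc1)).op
  let f2 : op c ⟶ a₂ := (homOfLE (hb2.trans hc2)).op
  let f3 : op c ⟶ a₃ := (homOfLE (hb3.trans hc2)).op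
  refine ⟨op c, f0, lift (lift (fst _ _ ≫ snd _ _ ≫ tr hτ f2) (snd _ _ ≫ tr hτ f1))
    (fst _ _ ≫ fst _ _ ≫ tr hτ f3) ≫ h₃, fun T x y z => ?_⟩
  have E3 : ∀ (u : T ⟶ B₂) (v : T ⟶ B₁) (w : T ⟶ G),
      lift (lift u v) (w ≫ pr hπ a₃) ≫ h₃ = lift (lift w v) u ≫ h₂ := by
    intro u v w
    have := congrArg (lift (lift u v) w ≫ ·) e₃
    simp only [s₂, ← Category.assoc, lift_whiskerLeft, comp_lift, lift_fst, lift_snd] at this
    exact this
  have E2 : ∀ (u : T ⟶ G) (v : T ⟶ B₁) (w : T ⟶ G),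
      lift (lift u v) (w ≫ pr hπ a₂) ≫ h₂ = lift (lift u w) v ≫ h₁ := by
    intro u v w
    have := congrArg (lift (lift u v) w ≫ ·) e₂
    simp only [s₁, ← Category.assoc, lift_whiskerLeft, comp_lift, lift_fst, lift_snd] at this
    exact this
  have E1 : ∀ (u v w : T ⟶ G), lift (lift u v) (w ≫ pr hπ a₁) ≫ h₁ = lift (lift u v) w ≫ h := by
    intro u v w
    have := congrArg (lift (lift u v) w ≫ ·) e₁
    simp only [← Category.assoc, lift_whiskerLeft] at this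
    exact this
  rw [← E1 x y z, ← E2 x (z ≫ pr hπ a₁) y, ← E3 (y ≫ pr hπ a₂) (z ≫ pr hπ a₁) x]
  simp only [← Category.assoc, comp_lift, lift_fst, lift_snd]
  simp only [Category.assoc, pr_tr]

end Groth.Agent.Sga3.H789.PerrinFac
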