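import Groth.Agent.Etcore.PullbackLim
import Groth.Agent.CalgA.RelApprox
import Groth.Agent.Smoothlim.AffineApprox2
import Groth.Agent.S0592

/-!
# Presentation of a quasi-compact separated scheme over a field as a limit of finite type schemes
-/

set_option autoImplicit false
universe u
open CategoryTheory MonoidalCategory CartesianMonoidalCategory AlgebraicGeometry Limits Opposite

namespace Groth.Agent.Sga3.H789.PerrinLim

open Groth.Agent.Etcore.PullbackLim

variable (k : Type u) [Field k]

theorem lofp_of_loft {X : Scheme.{u}} (f : X ⟶ Spec (CommRingCat.of k)) [LocallyOfFiniteType f] :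
    LocallyOfFinitePresentation f := inferInstance

/-- A quasi-compact separated scheme over a field is a limit of schemes of finite type with affine
transition maps, which are separated from some index on. -/
theorem exists_pres (X : Over (Spec (CommRingCat.of k))) [QuasiCompact X.hom] [IsSeparated X.hom] :
    ∃ (I : Type u) (_ : Preorder I) (_ : IsDirected I (fun a b => a ≤ b)) (_ : Nonempty I)
      (D : Iᵒᵖ ⥤ Scheme.{u}) (π : (Functor.const _).obj X.left ⟶ D)
      (_ : IsLimit (Cone.mk X.left π)) (τ : ∀ a, D.obj a ⟶ Spec (CommRingCat.of k)),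
      (∀ ⦃a b : Iᵒᵖ⦄ (h : a ⟶ b), D.map h ≫ τ b = τ a) ∧
      (∀ a, π.app a ≫ τ a = X.hom) ∧
      (∀ ⦃a b : Iᵒᵖ⦄ (h : a ⟶ b), IsAffineHom (D.map h)) ∧
      (∀ a, QuasiCompact (τ a) ∧ LocallyOfFiniteType (τ a)) ∧
      ∃ a₀, ∀ (a : Iᵒᵖ) (_ : a ⟶ a₀), IsSeparated (τ a) := by
  have hc1 : CompactSpace X.left := QuasiCompact.compactSpace_of_compactSpace X.hom
  have hc2 : QuasiSeparatedSpace X.left := quasiSeparatedSpace_of_quasiSeparated X.hom
  obtain ⟨T₀, g₀, hg₀, hT₀, hT₀'⟩ :=
    Groth.Agent.Smoothlim.AffineApprox2.exists_affine_to_finiteType_of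
      (fun {X T} g _ _ ↦ Groth.Agent.CalgA.RelApprox.relApprox g) X.left
  let z := Limits.IsTerminal.from specULiftZIsTerminal T₀
  let s := Limits.IsTerminal.from specULiftZIsTerminal (Spec (CommRingCat.of k))
  have hz1 : QuasiCompact z := (quasiCompact_iff_compactSpace z).2 hT₀
  let T := pullback z s
  let q : T ⟶ Spec (CommRingCat.of k) := pullback.snd z s
  let g : X.left ⟶ T := pullback.lift g₀ X.hom (specULiftZIsTerminal.hom_ext _ _)
  have hgz : g ≫ pullback.fst z s = g₀ := pullback.lift_fst _ _ _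
  have hgq : g ≫ q = X.hom := pullback.lift_snd _ _ _
  have hg : IsAffineHom g := by
    have : IsAffineHom (g ≫ pullback.fst z s) := by rw [hgz]; exact hg₀
    exact .of_comp g (pullback.fst z s)
  have hq1 : QuasiCompact q := inferInstance
  have hq2 : LocallyOfFiniteType q := inferInstance
  have hTn : IsLocallyNoetherian T := LocallyOfFiniteType.isLocallyNoetherian q
  have hTc : CompactSpace T := QuasiCompact.compactSpace_of_compactSpace q
  obtain ⟨I, h1, h2, h3, D, c, hc, t, e, hD, ht, hcomp⟩ := Groth.Agent.CalgA.RelApprox.relApprox g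
  let π : (Functor.const _).obj X.left ⟶ D :=
    { app a := e.inv ≫ c.π.app a
      naturality a b h := by
        change 𝟙 _ ≫ e.inv ≫ c.π.app b = (e.inv ≫ c.π.app a) ≫ D.map h
        rw [Category.assoc, c.w, Category.id_comp] }
  have hc' : IsLimit (Cone.mk X.left π) := hc.ofIsoLimit (Cone.ext e (fun a => by
    change c.π.app a = e.hom ≫ e.inv ≫ c.π.app a
    rw [e.hom_inv_id_assoc]))
  have htc : ∀ a, IsAffineHom (Y := T) (t.app a) := fun a => (ht a).1
  have htf : ∀ a, LocallyOfFiniteType (Y := T) (t.app a) := fun a => (ht a).2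
  let τ : ∀ a, D.obj a ⟶ Spec (CommRingCat.of k) := fun a => (show D.obj a ⟶ T from t.app a) ≫ q
  have hτ : ∀ a, QuasiCompact (τ a) ∧ LocallyOfFiniteType (τ a) := fun a =>
    ⟨inferInstance, inferInstance⟩
  refine ⟨I, h1, h2, h3, D, π, hc', τ, ?_, ?_, fun a b h => hD a b h, hτ, ?_⟩
  · intro a b h
    have hn : D.map h ≫ t.app b = t.app a := (t.naturality h).trans (Category.comp_id _)
    change D.map h ≫ t.app b ≫ q = t.app a ≫ q
    rw [← hn, Category.assoc]
  · intro a
    change (e.inv ≫ c.π.app a) ≫ t.app a ≫ q = X.hom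
    have h5 := hcomp a
    rw [Category.assoc, ← Category.assoc (c.π.app a), h5, Category.assoc, e.inv_hom_id_assoc, hgq]
  · have i1 : ∀ (a b : Iᵒᵖ) (h : a ⟶ b), IsAffineHom (D.map h) := fun a b h => hD a b h
    have i2 : ∀ a, CompactSpace (D.obj a) := fun a => by
      have := (hτ a).1
      exact QuasiCompact.compactSpace_of_compactSpace (τ a)
    have i3 : ∀ a, QuasiSeparatedSpace (D.obj a) := fun a => by
      have := (hτ a).2
      have : IsLocallyNoetherian (D.obj a) := LocallyOfFiniteType.isLocallyNoetherian (τ a)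
      infer_instance
    have i4 : IsSeparated (Limits.IsTerminal.from specULiftZIsTerminal (Cone.mk X.left π).pt) := by
      change IsSeparated (Limits.IsTerminal.from specULiftZIsTerminal X.left)
      rw [specULiftZIsTerminal.hom_ext (specULiftZIsTerminal.from X.left) (X.hom ≫ s)]
      infer_instance
    obtain ⟨a₀, h₀⟩ := Groth.Agent.S0592.result D (Cone.mk X.left π) hc'
    refine ⟨a₀, fun a h => ?_⟩
    have h6 := h₀ a h
    rw [specULiftZIsTerminal.hom_ext (specULiftZIsTerminal.from (D.obj a)) (τ a ≫ s)] at h6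
    exact IsSeparated.of_comp (τ a) s

end Groth.Agent.Sga3.H789.PerrinLim
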